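import Groth.Prelude.Def_NoriFGS

/-!
# Morphisms of pointed torsors, fibre products
-/

set_option autoImplicit false
set_option linter.style.haveILetI false

universe u v

open CategoryTheory CategoryTheory.Limits MonoidalCategory CartesianMonoidalCategory MonObj GrpObj AlgebraicGeometry

namespace Groth.Agent.H26Nori

section General

variable {S : Scheme.{u}} {G G' G'' : Over S} [GrpObj G] [GrpObj G'] [GrpObj G''] {T T' T'' : Over S}

/-- Equivariance on points. -/
theorem lift_equivariant {a : AlgGrp.Action G T} {a' : AlgGrp.Action G' T'} {ψ : G ⟶ G'} [IsMonHom ψ] {f : T ⟶ T'}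
    (h : AlgGrp.Action.IsEquivariant a (a'.restrict ψ) f) {Z : Over S} (g : Z ⟶ G) (t : Z ⟶ T) :
    lift g t ≫ a.act ≫ f = lift (g ≫ ψ) (t ≫ f) ≫ a'.act := by
  rw [h]
  show lift g t ≫ (G ◁ f) ≫ (ψ ▷ T') ≫ a'.act = _
  rw [lift_whiskerLeft_assoc, lift_whiskerRight_assoc]

/-- Composition of equivariant morphisms. -/
theorem equivariant_comp {a : AlgGrp.Action G T} {a' : AlgGrp.Action G' T'} {a'' : AlgGrp.Action G'' T''}
    {ψ : G ⟶ G'} [IsMonHom ψ] {ψ' : G' ⟶ G''} [IsMonHom ψ'] {f : T ⟶ T'} {f' : T' ⟶ T''}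
    (h : AlgGrp.Action.IsEquivariant a (a'.restrict ψ) f)
    (h' : AlgGrp.Action.IsEquivariant a' (a''.restrict ψ') f') :
    AlgGrp.Action.IsEquivariant a (a''.restrict (ψ ≫ ψ')) (f ≫ f') := by
  show a.act ≫ f ≫ f' = (G ◁ (f ≫ f')) ≫ ((ψ ≫ ψ') ▷ T'') ≫ a''.act
  have h1 := lift_equivariant h (fst G T) (snd G T)
  rw [lift_fst_snd, Category.id_comp] at h1
  rw [← Category.assoc, h1, Category.assoc]
  rw [lift_equivariant h' (fst G T ≫ ψ) (snd G T ≫ f)]
  rw [← Category.assoc (G ◁ (f ≫ f')), Category.assoc (fst G T) ψ, Category.assoc (snd G T) f]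
  congr 1
  ext <;> simp

/-- Points characterisation of pseudo-torsors. -/
theorem bijective_of_isPseudoTorsorSch {a : AlgGrp.Action G T} (h : NonAbH1.IsPseudoTorsorSch a) {Z : Over S}
    (x y : Z ⟶ T) : ∃! g : Z ⟶ G, lift g y ≫ a.act = x := by
  haveI : IsIso (lift a.act (snd G T)) := h
  refine ⟨lift x y ≫ inv (lift a.act (snd G T)) ≫ fst G T, ?_, ?_⟩
  · have e : inv (lift a.act (snd G T)) ≫ snd G T = snd T T := by rw [IsIso.inv_comp_eq, lift_snd]
    have e2 : inv (lift a.act (snd G T)) ≫ a.act = fst T T := by rw [IsIso.inv_comp_eq, lift_fst]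
    have : lift (lift x y ≫ inv (lift a.act (snd G T)) ≫ fst G T) y = lift x y ≫ inv (lift a.act (snd G T)) := by
      ext <;> simp [e]
    dsimp only
    rw [this, Category.assoc, e2, lift_fst]
  · intro g hg
    have : lift x y = lift g y ≫ lift a.act (snd G T) := by ext <;> simp [hg]
    rw [this, Category.assoc, IsIso.hom_inv_id_assoc, lift_fst]

/-- A morphism to a product is an isomorphism if it induces bijections on points. -/
theorem isPseudoTorsorSch_of_bijective {a : AlgGrp.Action G T}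
    (h : ∀ {Z : Over S} (x y : Z ⟶ T), ∃! g : Z ⟶ G, lift g y ≫ a.act = x) :
    NonAbH1.IsPseudoTorsorSch a := by
  obtain ⟨g, hg, -⟩ := h (fst T T) (snd T T)
  refine ⟨⟨lift g (snd T T), ?_, ?_⟩⟩
  · obtain ⟨g', -, hu⟩ := h (lift a.act (snd G T) ≫ fst T T) (lift a.act (snd G T) ≫ snd T T)
    have e1 : lift a.act (snd G T) ≫ g = g' := hu _ (by
      show lift _ _ ≫ a.act = _
      rw [← comp_lift_assoc, hg])
    have e2 : fst G T = g' := hu _ (by
      show lift _ _ ≫ a.act = _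
      rw [lift_snd, lift_fst_snd, Category.id_comp, lift_fst])
    rw [comp_lift, e1, ← e2, lift_snd, lift_fst_snd]
  · rw [comp_lift, hg, lift_snd, lift_fst_snd]

end General

section Pullback

variable {S : Scheme.{u}} {Q G G₁ G₂ T T₁ T₂ : Over S} [GrpObj Q] [GrpObj G] [GrpObj G₁] [GrpObj G₂]
  {b : AlgGrp.Action G T} {b₁ : AlgGrp.Action G₁ T₁} {b₂ : AlgGrp.Action G₂ T₂}
  {ψ₁ : G₁ ⟶ G} {ψ₂ : G₂ ⟶ G} [IsMonHom ψ₁] [IsMonHom ψ₂] {π₁ : Q ⟶ G₁} {π₂ : Q ⟶ G₂} [IsMonHom π₁] [IsMonHom π₂]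
  {f₁ : T₁ ⟶ T} {f₂ : T₂ ⟶ T}
  (h₁ : AlgGrp.Action.IsEquivariant b₁ (b.restrict ψ₁) f₁) (h₂ : AlgGrp.Action.IsEquivariant b₂ (b.restrict ψ₂) f₂)
  (hQ : IsPullback π₁ π₂ ψ₁ ψ₂)

include h₁ h₂ hQ in
/-- The fibre product of torsors along equivariant morphisms is a pseudo-torsor under the fibre product
of the groups. -/
theorem exists_action_pullback (hb : NonAbH1.IsPseudoTorsorSch b) (hb₁ : NonAbH1.IsPseudoTorsorSch b₁)
    (hb₂ : NonAbH1.IsPseudoTorsorSch b₂) :
    ∃ c : AlgGrp.Action Q (pullback f₁ f₂),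
      AlgGrp.Action.IsEquivariant c (b₁.restrict π₁) (pullback.fst f₁ f₂) ∧
      AlgGrp.Action.IsEquivariant c (b₂.restrict π₂) (pullback.snd f₁ f₂) ∧
      NonAbH1.IsPseudoTorsorSch c := by
  have hw : (lift (fst Q _ ≫ π₁) (snd Q (pullback f₁ f₂) ≫ pullback.fst f₁ f₂) ≫ b₁.act) ≫ f₁ =
      (lift (fst Q _ ≫ π₂) (snd Q (pullback f₁ f₂) ≫ pullback.snd f₁ f₂) ≫ b₂.act) ≫ f₂ := by
    rw [Category.assoc, Category.assoc, lift_equivariant h₁, lift_equivariant h₂]
    simp only [Category.assoc, pullback.condition, hQ.w]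
  let act : Q ⊗ pullback f₁ f₂ ⟶ pullback f₁ f₂ := pullback.lift _ _ hw
  have ea : ∀ {Z : Over S} (q : Z ⟶ Q) (x : Z ⟶ pullback f₁ f₂),
      lift q x ≫ act ≫ pullback.fst f₁ f₂ = lift (q ≫ π₁) (x ≫ pullback.fst f₁ f₂) ≫ b₁.act := by
    intro Z q x
    simp only [act, pullback.lift_fst, comp_lift_assoc, lift_fst_assoc, lift_snd_assoc]
  have eb : ∀ {Z : Over S} (q : Z ⟶ Q) (x : Z ⟶ pullback f₁ f₂),
      lift q x ≫ act ≫ pullback.snd f₁ f₂ = lift (q ≫ π₂) (x ≫ pullback.snd f₁ f₂) ≫ b₂.act := by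
    intro Z q x
    simp only [act, pullback.lift_snd, comp_lift_assoc, lift_fst_assoc, lift_snd_assoc]
  let c : AlgGrp.Action Q (pullback f₁ f₂) :=
    { act := act
      one_act := by
        have e1 : (η[Q] ▷ pullback f₁ f₂) = lift (toUnit _ ≫ η[Q]) (snd _ _) := by ext <;> simp [toUnit_unique (fst (𝟙_ (Over S)) (pullback f₁ f₂)) (toUnit _)]
        rw [e1, leftUnitor_hom]
        apply pullback.hom_ext
        · rw [Category.assoc, ea, Category.assoc, IsMonHom.one_hom]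
          have := b₁.one_act
          rw [leftUnitor_hom] at this
          calc _ = lift (fst (𝟙_ (Over S)) _) (snd _ _ ≫ pullback.fst f₁ f₂) ≫ (η[G₁] ▷ T₁) ≫ b₁.act := by
                rw [lift_whiskerRight_assoc, toUnit_unique (fst (𝟙_ (Over S)) (pullback f₁ f₂)) (toUnit _)]
            _ = _ := by rw [this, lift_snd]
        · rw [Category.assoc, eb, Category.assoc, IsMonHom.one_hom]
          have := b₂.one_act
          rw [leftUnitor_hom] at this
          calc _ = lift (fst (𝟙_ (Over S)) _) (snd _ _ ≫ pullback.snd f₁ f₂) ≫ (η[G₂] ▷ T₂) ≫ b₂.act := by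
                rw [lift_whiskerRight_assoc, toUnit_unique (fst (𝟙_ (Over S)) (pullback f₁ f₂)) (toUnit _)]
            _ = _ := by rw [this, lift_snd]
      mul_act := by
        apply AlgGrp.Action.hom_ext_lift₃
        intro Z q q' x
        rw [lift_whiskerRight_assoc, lift_lift_associator_hom_assoc, lift_whiskerLeft_assoc]
        apply pullback.hom_ext
        · simp only [Category.assoc]
          rw [ea, ea, Category.assoc (lift q' x) act, ea, ← Hom.mul_def, MonObj.mul_comp, b₁.lift_mul_act]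
        · simp only [Category.assoc]
          rw [eb, eb, Category.assoc (lift q' x) act, eb, ← Hom.mul_def, MonObj.mul_comp, b₂.lift_mul_act] }
  refine ⟨c, ?_, ?_, isPseudoTorsorSch_of_bijective ?_⟩
  · show act ≫ _ = (Q ◁ _) ≫ (π₁ ▷ _) ≫ b₁.act
    apply AlgGrp.Action.hom_ext_lift₂
    intro Z q x
    rw [lift_whiskerLeft_assoc, lift_whiskerRight_assoc, ea]
  · show act ≫ _ = (Q ◁ _) ≫ (π₂ ▷ _) ≫ b₂.act
    apply AlgGrp.Action.hom_ext_lift₂
    intro Z q x
    rw [lift_whiskerLeft_assoc, lift_whiskerRight_assoc, eb]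
  · intro Z x y
    obtain ⟨g₁, hg₁, hu₁⟩ := bijective_of_isPseudoTorsorSch hb₁ (x ≫ pullback.fst f₁ f₂) (y ≫ pullback.fst f₁ f₂)
    obtain ⟨g₂, hg₂, hu₂⟩ := bijective_of_isPseudoTorsorSch hb₂ (x ≫ pullback.snd f₁ f₂) (y ≫ pullback.snd f₁ f₂)
    obtain ⟨g, -, hu⟩ := bijective_of_isPseudoTorsorSch hb (x ≫ pullback.fst f₁ f₂ ≫ f₁) (y ≫ pullback.fst f₁ f₂ ≫ f₁)
    have hc : g₁ ≫ ψ₁ = g₂ ≫ ψ₂ := by
      rw [hu (g₁ ≫ ψ₁) (by
          have := congrArg (· ≫ f₁) hg₁
          simp only [Category.assoc] at this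
          rw [lift_equivariant h₁] at this
          simpa using this),
        hu (g₂ ≫ ψ₂) (by
          have := congrArg (· ≫ f₂) hg₂
          simp only [Category.assoc] at this
          rw [lift_equivariant h₂] at this
          simpa [pullback.condition] using this)]
    refine ⟨hQ.lift g₁ g₂ hc, ?_, ?_⟩
    · apply pullback.hom_ext
      · rw [Category.assoc, ea, hQ.lift_fst, hg₁]
      · rw [Category.assoc, eb, hQ.lift_snd, hg₂]
    · intro q hq
      apply hQ.hom_ext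
      · rw [hQ.lift_fst]
        exact hu₁ _ (by dsimp only; rw [← ea, ← hq, Category.assoc])
      · rw [hQ.lift_snd]
        exact hu₂ _ (by dsimp only; rw [← eb, ← hq, Category.assoc])

end Pullback

end Groth.Agent.H26Nori
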